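import Cfsg.Agent.Lib.PF.OddOrder

/-!
# Simple groups with self-centralizing non-cyclic subgroups: the definition and the even order
-/

set_option autoImplicit false

namespace CfsgLib.SelfCentralSimple

open Subgroup

universe u

variable {G : Type u} [Group G]

/-- Every non-cyclic subgroup contains its centralizer. -/
def SC (G : Type u) [Group G] : Prop :=
  ∀ H : Subgroup G, ¬ IsCyclic ↥H → centralizer (H : Set G) ≤ H

theorem comm_of_solvable [IsSimpleGroup G] (h : Group.IsSolvable G) : IsMulCommutative G :=
  ⟨⟨fun a b => IsSimpleGroup.comm_iff_isSolvable.2 h a b⟩⟩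

theorem even_card [Finite G] [IsSimpleGroup G] (hna : ¬ IsMulCommutative G) :
    2 ∣ Nat.card G := by
  by_contra h2
  exact hna (comm_of_solvable (CfsgLib.PF.oddSolvable G (Nat.odd_iff.2 (by omega))))

end CfsgLib.SelfCentralSimple
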