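import Cfsg.Prelude.Def_CaseTheorems
import Cfsg.Agent.Lib.SelfCentralSimple.Even
import Cfsg.Agent.Lib.TwoGroups85.MaxClass
import Cfsg.Agent.Lib.PCore.Basic
import Cfsg.Agent.S0016
import Cfsg.Agent.S0112
import Cfsg.Agent.S0199
import Cfsg.Agent.S0201
import Cfsg.Agent.S0508
import Cfsg.Agent.S1213
import Cfsg.Agent.S3116

/-!
# Involution centralizers in a simple group with self-centralizing non-cyclic subgroups
-/

set_option autoImplicit false
set_option linter.style.haveILetI false

namespace CfsgLib.SelfCentralSimple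

open Subgroup

universe u

variable {G : Type u} [Group G]

/-- The subgroup generated by two commuting involutions. -/
def four {t v : G} (ht : t * t = 1) (hv : v * v = 1) (hc : Commute t v) : Subgroup G where
  carrier := {1, t, v, t * v}
  one_mem' := Or.inl rfl
  mul_mem' := by
    have h1 : v * t = t * v := hc.eq.symm
    have h2 : t * (t * v) = v := by rw [← mul_assoc, ht, one_mul]
    have h3 : (t * v) * v = t := by rw [mul_assoc, hv, mul_one]
    have h4 : (t * v) * t = v := by rw [mul_assoc, h1, h2]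
    have h5 : v * (t * v) = t := by rw [← mul_assoc, h1, h3]
    have h6 : (t * v) * (t * v) = 1 := by rw [← mul_assoc, h4, hv]
    rintro a b (rfl | rfl | rfl | rfl) (rfl | rfl | rfl | rfl) <;>
      simp [ht, hv, h1, h2, h3, h4, h5, h6]
  inv_mem' := by
    have h1 : t⁻¹ = t := inv_eq_of_mul_eq_one_right ht
    have h2 : v⁻¹ = v := inv_eq_of_mul_eq_one_right hv
    rintro a (rfl | rfl | rfl | rfl) <;> simp [h1, h2, hc.eq.symm]

theorem mem_four {t v : G} (ht : t * t = 1) (hv : v * v = 1) (hc : Commute t v) {g : G} :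
    g ∈ four ht hv hc ↔ g = 1 ∨ g = t ∨ g = v ∨ g = t * v := Iff.rfl

theorem mul_self_of_order {t : G} (ht : orderOf t = 2) : t * t = 1 := by
  rw [← pow_two, ← ht, pow_orderOf_eq_one]

theorem ne_one_of_order {t : G} (ht : orderOf t = 2) : t ≠ 1 := fun h => by
  rw [h, orderOf_one] at ht; omega

theorem four_facts {t v : G} (ht : orderOf t = 2) (hv : orderOf v = 2) (hne : t ≠ v)
    (hc : Commute t v) :
    Nat.card (four (mul_self_of_order ht) (mul_self_of_order hv) hc) = 4 ∧
      ¬ IsCyclic (four (mul_self_of_order ht) (mul_self_of_order hv) hc) := by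
  classical
  have h1 := ne_one_of_order ht
  have h2 := ne_one_of_order hv
  have h3 : t * v ≠ 1 := fun h => hne (mul_left_cancel (h.trans (mul_self_of_order ht).symm)).symm
  set V := four (mul_self_of_order ht) (mul_self_of_order hv) hc with hV
  have hcard : Nat.card V = 4 := by
    rw [Nat.card_congr (Equiv.subtypeEquivRight (q := fun g => g ∈ ({1, t, v, t * v} : Finset G))
      fun g => by simp [hV, mem_four]), Nat.card_eq_fintype_card, Fintype.card_coe,
      Finset.card_insert_of_notMem, Finset.card_insert_of_notMem, Finset.card_insert_of_notMem,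
      Finset.card_singleton] <;> simp [h1.symm, h2.symm, h3.symm, hne, h1, h2]
  refine ⟨hcard, fun hC => ?_⟩
  haveI : Finite V := Nat.finite_of_card_ne_zero (by omega)
  obtain ⟨⟨g, hg⟩, hgo⟩ := IsCyclic.exists_ofOrder_eq_natCard (α := V)
  rw [Subgroup.orderOf_mk, hcard] at hgo
  have hg2 : g ^ 2 = 1 := by
    rw [pow_two]
    rcases hg with rfl | rfl | rfl | rfl
    · exact one_mul 1
    · exact mul_self_of_order ht
    · exact mul_self_of_order hv
    · rw [mul_assoc, ← mul_assoc v, ← hc.eq, mul_assoc t v, mul_self_of_order hv, mul_one,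
        mul_self_of_order ht]
  have := Nat.le_of_dvd two_pos (orderOf_dvd_of_pow_eq_one hg2)
  omega

/-- Only the elements of `⟨t, v⟩` commute with both commuting involutions `t`, `v`. -/
theorem cases_of_commute (hsc : SC G) {t v : G} (ht : orderOf t = 2) (hv : orderOf v = 2)
    (hne : t ≠ v) (hc : Commute t v) {g : G} (h1 : Commute g t) (h2 : Commute g v) :
    g = 1 ∨ g = t ∨ g = v ∨ g = t * v :=
  hsc _ (four_facts ht hv hne hc).2 (mem_centralizer_iff.2 fun h hh => by
    rcases hh with rfl | rfl | rfl | rfl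
    · rw [one_mul, mul_one]
    · exact h1.symm.eq
    · exact h2.symm.eq
    · exact (h1.mul_right h2).symm.eq)

/-- An element of odd order commuting with `t` is not inverted by another involution commuting
with `t`. -/
theorem no_invert (hsc : SC G) {t v y : G} (ht : orderOf t = 2) (hv : orderOf v = 2) (hne : t ≠ v)
    (hc : Commute t v) (hty : Commute t y) (hinv : v * y * v⁻¹ = y⁻¹) (hy : Odd (orderOf y))
    (hy1 : y ≠ 1) : False := by
  have hco : Nat.Coprime (orderOf y) 2 := Nat.coprime_two_right.2 hy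
  have hsq : ∀ i : ℤ, y ^ i = (y ^ i)⁻¹ → y ^ i = 1 := fun i h => by
    have h2 : (y ^ i) ^ 2 = 1 := by rw [pow_two, ← eq_inv_iff_mul_eq_one]; exact h
    exact orderOf_eq_one_iff.1 (Nat.eq_one_of_dvd_coprimes hco
      (by exact orderOf_dvd_of_mem_zpowers ⟨i, rfl⟩) (orderOf_dvd_of_pow_eq_one h2))
  have hvn : zpowers v ≤ normalizer (zpowers y : Set G) := zpowers_le.2 (mem_normalizer_iff.2 fun n => by
    have h1 : ∀ m ∈ zpowers y, v * m * v⁻¹ ∈ zpowers y := by
      rintro _ ⟨i, rfl⟩
      exact ⟨-i, by simp only [← conj_zpow, hinv, inv_zpow', ]⟩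
    refine ⟨h1 n, fun h => ?_⟩
    have h2 := h1 _ h
    rwa [inv_eq_of_mul_eq_one_right (mul_self_of_order hv),
      show v * (v * n * v) * v = (v * v) * n * (v * v) by group, mul_self_of_order hv, one_mul,
      mul_one] at h2)
  set H := zpowers y ⊔ zpowers v with hH
  have hnc : ¬ IsCyclic H := by
    intro hC
    haveI := hC
    have h := mul_comm' (⟨v, mem_sup_right (mem_zpowers v)⟩ : H) ⟨y, mem_sup_left (mem_zpowers y)⟩
    have h' : v * y = y * v := congrArg Subtype.val h
    refine hy1 ?_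
    have := hsq 1 (by rw [zpow_one, ← hinv, h', mul_inv_cancel_right])
    rwa [zpow_one] at this
  have hmem : t ∈ H := hsc H hnc (mem_centralizer_iff.2 fun h hh => by
    have : H ≤ centralizer {t} := sup_le (zpowers_le.2 (mem_centralizer_singleton_iff.2 hty.symm.eq))
      (zpowers_le.2 (mem_centralizer_singleton_iff.2 hc.symm.eq))
    exact mem_centralizer_singleton_iff.1 (this hh))
  rw [← SetLike.mem_coe, hH, coe_mul_of_right_le_normalizer_left _ _ hvn] at hmem
  obtain ⟨_, ⟨i, rfl⟩, _, ⟨j, rfl⟩, hij⟩ := Set.mem_mul.1 hmem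
  simp only at hij
  rcases Int.even_or_odd j with ⟨r, rfl⟩ | ⟨r, rfl⟩
  · rw [zpow_add, ← (Commute.refl v).mul_zpow, mul_self_of_order hv, one_zpow, mul_one] at hij
    have h1 := Nat.eq_one_of_dvd_coprimes hco (orderOf_dvd_of_mem_zpowers (hij ▸ ⟨i, rfl⟩))
      (ht ▸ dvd_rfl : orderOf t ∣ 2)
    omega
  · rw [zpow_add, zpow_mul, zpow_two, mul_self_of_order hv, one_zpow, one_mul, zpow_one] at hij
    refine hne ?_
    have h1 : y ^ i = t * v := by
      rw [← hij, mul_assoc, mul_self_of_order hv, mul_one]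
    have hcomm : v * y ^ i * v⁻¹ = y ^ i := by
      rw [h1, mul_inv_eq_iff_eq_mul, ← mul_assoc, ← hc.eq]
    rw [← conj_zpow, hinv, inv_zpow] at hcomm
    rw [hsq i hcomm.symm, one_mul] at hij
    exact hij.symm

theorem center_eq_bot [IsSimpleGroup G] (hna : ¬ IsMulCommutative G) : center G = ⊥ :=
  (inferInstance : (center G).Normal).eq_bot_or_eq_top.resolve_right fun h =>
    hna ⟨⟨fun a b => (mem_center_iff.1 (h ▸ mem_top b : b ∈ center G) a)⟩⟩

variable [Finite G]

theorem not_isCyclic_sylow [IsSimpleGroup G] (hna : ¬ IsMulCommutative G) {p : ℕ} [Fact p.Prime]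
    (hp : (Nat.card G).minFac = p) (P : Sylow p G) : ¬ IsCyclic (P : Subgroup G) := by
  intro hc
  have hle : normalizer ((P : Subgroup G) : Set G) ≤ centralizer ((P : Subgroup G) : Set G) :=
    hc.normalizer_le_centralizer hp
  have hcomp := MonoidHom.ker_transferSylow_isComplement' P hle
  rcases (MonoidHom.normal_ker (MonoidHom.transferSylow P hle)).eq_bot_or_eq_top with h | h
  · rw [h, isComplement'_bot_left] at hcomp
    refine hna ⟨⟨fun a b => ?_⟩⟩
    exact congrArg Subtype.val
      (mul_comm' (⟨a, hcomp ▸ mem_top a⟩ : (P : Subgroup G)) ⟨b, hcomp ▸ mem_top b⟩)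
  · rw [h, isComplement'_top_left] at hcomp
    exact P.ne_bot_of_dvd_card (hp ▸ Nat.minFac_dvd _) hcomp

theorem minFac_eq_two [IsSimpleGroup G] (hna : ¬ IsMulCommutative G) :
    (Nat.card G).minFac = 2 := Nat.minFac_eq_two_iff _ |>.2 (even_card hna)

theorem quaternion_unique {m : ℕ} [NeZero m] {g : QuaternionGroup m} (hg : orderOf g = 2) :
    g = QuaternionGroup.a (m : ZMod (2 * m)) := by
  rcases g with i | i
  · rw [QuaternionGroup.orderOf_a] at hg
    congr 1
    have hpos : 0 < m := Nat.pos_of_ne_zero (NeZero.ne m)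
    have hlt := ZMod.val_lt i
    have hgd : Nat.gcd (2 * m) i.val = m := by
      have := Nat.div_mul_cancel (Nat.gcd_dvd_left (2 * m) i.val)
      rw [hg] at this
      omega
    obtain ⟨c, hc⟩ : m ∣ i.val := by
      have := Nat.gcd_dvd_right (2 * m) i.val
      rwa [hgd] at this
    have hc1 : c = 1 := by
      rcases Nat.lt_or_ge c 1 with h | h
      · rw [hc, show c = 0 by omega, mul_zero, Nat.gcd_zero_right] at hgd
        omega
      · by_contra hne
        have : m * 2 ≤ m * c := Nat.mul_le_mul_left _ (by omega)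
        omega
    rw [← ZMod.natCast_rightInverse i, hc, hc1, mul_one]
  · rw [QuaternionGroup.orderOf_xa] at hg
    omega

/-- A Sylow 2-subgroup contains a central involution and a further involution. -/
theorem exists_four [IsSimpleGroup G] (hna : ¬ IsMulCommutative G) (S : Sylow 2 G) :
    ∃ t v : G, t ∈ (S : Subgroup G) ∧ v ∈ (S : Subgroup G) ∧ orderOf t = 2 ∧ orderOf v = 2 ∧
      t ≠ v ∧ ∀ s ∈ (S : Subgroup G), Commute s t := by
  haveI := Fact.mk Nat.prime_two
  have hnc := not_isCyclic_sylow hna (minFac_eq_two hna) S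
  haveI : Nontrivial (S : Subgroup G) :=
    (nontrivial_iff_ne_bot _).2 (S.ne_bot_of_dvd_card (even_card hna))
  haveI := S.isPGroup'.center_nontrivial
  obtain ⟨z, hz⟩ := exists_prime_orderOf_dvd_card' (G := center (S : Subgroup G)) 2 (by
    obtain ⟨n, hn⟩ := (S.isPGroup'.to_subgroup (center (S : Subgroup G))).exists_card_eq
    rw [hn]
    refine dvd_pow_self 2 fun h => ?_
    rw [h, pow_zero] at hn
    exact absurd hn (Finite.one_lt_card).ne')
  have hzo : orderOf ((z : (S : Subgroup G)) : G) = 2 := by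
    rw [orderOf_coe, orderOf_coe, hz]
  by_cases hex : ∃ v : G, v ∈ (S : Subgroup G) ∧ orderOf v = 2 ∧ ((z : (S : Subgroup G)) : G) ≠ v
  · obtain ⟨v, hv, hvo, hne⟩ := hex
    exact ⟨_, v, z.1.2, hv, hzo, hvo, hne, fun s hs =>
      congrArg Subtype.val (mem_center_iff.1 z.2 ⟨s, hs⟩)⟩
  exfalso
  push Not at hex
  have huniq : ∀ H K : Subgroup (S : Subgroup G), Nat.card H = 2 → Nat.card K = 2 → H = K := by
    have key : ∀ H : Subgroup (S : Subgroup G), Nat.card H = 2 → H = zpowers z.1 := by
      intro H hH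
      obtain ⟨h, hh⟩ := exists_prime_orderOf_dvd_card' (G := H) 2 (by rw [hH])
      rw [← orderOf_coe] at hh
      have he : (z : (S : Subgroup G)) = h.1 :=
        Subtype.ext (hex _ h.1.2 (by rw [orderOf_coe, hh]))
      refine (eq_of_le_of_card_ge (zpowers_le.2 (he ▸ h.2)) ?_).symm
      rw [Nat.card_zpowers, orderOf_coe, hz, hH]
    intro H K hH hK
    rw [key H hH, key K hK]
  rcases Cfsg.Agent.S0016.result 2 S.isPGroup' huniq with h | ⟨-, n, ⟨e⟩⟩
  · exact hnc h
  cases n with
  | zero =>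
    haveI : IsCyclic (QuaternionGroup (2 ^ 0)) := QuaternionGroup.quaternionGroup_one_isCyclic
    exact hnc (isCyclic_of_injective e.toMonoidHom e.injective)
  | succ n =>
    have h := Cfsg.Agent.S0201.result S n e fun N hN hodd =>
      hN.eq_bot_or_eq_top.resolve_right fun h => by
        rw [h, card_top] at hodd
        exact (Nat.not_even_iff_odd.2 hodd) (even_iff_two_dvd.2 (even_card hna))
    rw [center_eq_bot hna, Subgroup.card_bot] at h
    omega

theorem exists_commuting [IsSimpleGroup G] (hna : ¬ IsMulCommutative G) {t : G}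
    (ht : orderOf t = 2) : ∃ v : G, orderOf v = 2 ∧ t ≠ v ∧ Commute t v := by
  haveI := Fact.mk Nat.prime_two
  have h2 : IsPGroup 2 (zpowers t) := IsPGroup.of_card (n := 1) (by rw [Nat.card_zpowers, ht, pow_one])
  obtain ⟨S, hS⟩ := h2.exists_le_sylow
  obtain ⟨a, b, ha, hb, hao, hbo, hab, hcen⟩ := exists_four hna S
  by_cases h : t = a
  · exact ⟨b, hbo, h ▸ hab, h ▸ (hcen b hb).symm⟩
  · exact ⟨a, hao, h, hcen t (hS (mem_zpowers t))⟩

/-- A 2-subgroup containing commuting involutions is of order four, dihedral or semidihedral. -/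
theorem two_subgroup (hsc : SC G) {R : Subgroup G} (hR : IsPGroup 2 R) {t v : G} (htR : t ∈ R)
    (hvR : v ∈ R) (ht : orderOf t = 2) (hv : orderOf v = 2) (hne : t ≠ v) (hc : Commute t v) :
    Nat.card R = 4 ∨ (∃ k : ℕ, Nonempty (R ≃* DihedralGroup (2 ^ (k + 2)))) ∨
      Cfsg.IsQuasiDihedral R := by
  haveI := Fact.mk Nat.prime_two
  set V := four (mul_self_of_order ht) (mul_self_of_order hv) hc
  have hVR : V ≤ R := by
    rintro g (rfl | rfl | rfl | rfl)
    exacts [one_mem _, htR, hvR, mul_mem htR hvR]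
  obtain ⟨n, hn⟩ := hR.exists_card_eq
  have hd := card_dvd_of_le hVR
  rw [(four_facts ht hv hne hc).1, hn] at hd
  have hn2 : 2 ≤ n := (Nat.pow_dvd_pow_iff_le_right one_lt_two).1 hd
  rcases hn2.eq_or_lt with h | h
  · exact Or.inl (by rw [hn, ← h]; rfl)
  refine Or.inr ?_
  have hA : Nat.card (V.subgroupOf R) = 2 ^ 2 := by
    rw [Nat.card_congr (subgroupOfEquivOfLe hVR).toEquiv, (four_facts ht hv hne hc).1]; rfl
  have hC : centralizer ((V.subgroupOf R : Subgroup R) : Set R) = V.subgroupOf R := by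
    ext g
    rw [mem_centralizer_iff, mem_subgroupOf]
    refine ⟨fun hg => cases_of_commute hsc ht hv hne hc
      (congrArg Subtype.val (hg ⟨t, htR⟩ (Or.inr (Or.inl rfl)))).symm
      (congrArg Subtype.val (hg ⟨v, hvR⟩ (Or.inr (Or.inr (Or.inl rfl))))).symm, fun hg a ha => ?_⟩
    refine Subtype.ext ?_
    have hcomm : ∀ x ∈ V, ∀ y ∈ V, Commute x y := by
      rintro x (rfl | rfl | rfl | rfl) y (rfl | rfl | rfl | rfl) <;>
        simp [hc, hc.symm, Commute.mul_left, Commute.mul_right]
    exact hcomm _ (mem_subgroupOf.1 ha) _ hg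
  have hclass := Cfsg.Agent.S0112.result (p := 2) n hn (V.subgroupOf R) hA hC
  rcases CfsgLib.TwoGroups85.isDSQ_of_maximalClass h hn hclass with
    hD | ⟨k, hk, a, b, ha, hb, hab⟩ | ⟨k, ⟨e⟩⟩
  · exact Or.inl hD
  · exact Or.inr ⟨k + 3, by omega, by rw [hk], a, b, ha, hb, by
      rw [hab, show k + 3 - 1 = k + 2 by omega]⟩
  · exfalso
    haveI : NeZero (2 ^ (k + 1)) := ⟨by positivity⟩
    refine hne (congrArg Subtype.val (e.injective (a₁ := ⟨t, htR⟩) (a₂ := ⟨v, hvR⟩) ?_))
    rw [quaternion_unique (g := e ⟨t, htR⟩) (by rw [e.orderOf_eq, Subgroup.orderOf_mk, ht]),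
      quaternion_unique (g := e ⟨v, hvR⟩) (by rw [e.orderOf_eq, Subgroup.orderOf_mk, hv])]

/-- Centralizers of involutions are 2-groups. -/
theorem centralizer_two [IsSimpleGroup G] (hna : ¬ IsMulCommutative G) (hsc : SC G) {t : G}
    (ht : orderOf t = 2) : IsPGroup 2 (centralizer ({t} : Set G)) := by
  classical
  haveI := Fact.mk Nat.prime_two
  set C := centralizer ({t} : Set G) with hC
  obtain ⟨v, hv, hne, hc⟩ := exists_commuting hna ht
  have hvC : v ∈ C := mem_centralizer_singleton_iff.2 hc.symm.eq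
  have htC : t ∈ C := mem_centralizer_singleton_iff.2 rfl
  set v' : C := ⟨v, hvC⟩ with hv'
  have hv'o : orderOf v' = 2 := by rw [hv', Subgroup.orderOf_mk, hv]
  have hX : IsPGroup 2 (zpowers v') :=
    IsPGroup.of_card (n := 1) (by rw [Nat.card_zpowers, hv'o, pow_one])
  by_cases hall : ∀ g : C, IsPGroup 2 ↥(zpowers v' ⊔ (zpowers v').map (MulAut.conj g).toMonoidHom)
  swap
  · push Not at hall
    obtain ⟨c, hnp⟩ := hall
    exfalso
    set w : C := c * v' * c⁻¹ with hw
    have hvv : v' * v' = 1 := mul_self_of_order hv'o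
    have hww : w * w = 1 := by
      rw [hw, show c * v' * c⁻¹ * (c * v' * c⁻¹) = c * (v' * v') * c⁻¹ by group, hvv, mul_one,
        mul_inv_cancel]
    obtain ⟨a, m, hm, hd⟩ := Nat.exists_eq_two_pow_mul_odd (orderOf_pos (v' * w)).ne'
    have hinv : ∀ j : ℕ, v' * (v' * w) ^ j * v'⁻¹ = ((v' * w) ^ j)⁻¹ := fun j => by
      rw [← conj_pow, ← inv_pow, mul_inv_rev, inv_eq_of_mul_eq_one_right hvv,
        inv_eq_of_mul_eq_one_right hww, ← mul_assoc v', hvv, one_mul]
    by_cases hm1 : m = 1
    · refine hnp ?_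
      have h2 : IsPGroup 2 (zpowers (v' * w)) :=
        IsPGroup.of_card (n := a) (by rw [Nat.card_zpowers, hd, hm1, mul_one])
      have hN : zpowers v' ≤ normalizer (zpowers (v' * w) : Set C) :=
        zpowers_le.2 (mem_normalizer_iff.2 fun n => by
          have h1 : ∀ x ∈ zpowers (v' * w), v' * x * v'⁻¹ ∈ zpowers (v' * w) := by
            rintro _ ⟨i, rfl⟩
            refine ⟨-i, ?_⟩
            have := hinv 1
            rw [pow_one] at this
            simp only [← conj_zpow, this, inv_zpow']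
          refine ⟨h1 n, fun h => ?_⟩
          have h2 := h1 _ h
          rwa [inv_eq_of_mul_eq_one_right hvv,
            show v' * (v' * n * v') * v' = (v' * v') * n * (v' * v') by group, hvv, one_mul,
            mul_one] at h2)
      refine (h2.to_sup_of_normal_left' hX hN).to_le ?_
      refine sup_le le_sup_right ?_
      rw [MonoidHom.map_zpowers, zpowers_le]
      show c * v' * c⁻¹ ∈ _
      have h3 : v'⁻¹ * (v' * w) ∈ zpowers (v' * w) ⊔ zpowers v' :=
        mul_mem (inv_mem (mem_sup_right (mem_zpowers v'))) (mem_sup_left (mem_zpowers _))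
      rwa [inv_mul_cancel_left] at h3
    · set y : C := (v' * w) ^ 2 ^ a with hy
      have hyo : orderOf (y : G) = m := by
        rw [orderOf_coe, hy, orderOf_pow_of_dvd (by positivity) (hd ▸ dvd_mul_right _ _), hd,
          Nat.mul_div_cancel_left _ (by positivity)]
      exact no_invert hsc ht hv hne hc (mem_centralizer_singleton_iff.1 y.2).symm
        (congrArg Subtype.val (hinv _)) (hyo ▸ hm) fun h => hm1 (by rw [← hyo, h, orderOf_one])
  obtain ⟨N, hN, hN2, hvN⟩ := Cfsg.Agent.S0199.result (zpowers v') hX hall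
  haveI := hN
  set t' : C := ⟨t, htC⟩
  have htc : ∀ g : C, g * t' * g⁻¹ = t' := fun g =>
    mul_inv_eq_iff_eq_mul.2 (Subtype.ext (mem_centralizer_singleton_iff.1 g.2))
  have hT2 : IsPGroup 2 (zpowers t') :=
    IsPGroup.of_card (n := 1) (by rw [Nat.card_zpowers, Subgroup.orderOf_mk, ht, pow_one])
  haveI hTn : (zpowers t').Normal := ⟨fun n hn g => by
    obtain ⟨i, rfl⟩ := hn
    exact ⟨i, by simp only [← conj_zpow, htc]⟩⟩
  set R' := N ⊔ zpowers t'
  haveI : R'.Normal := sup_normal _ _
  have hR'2 : IsPGroup 2 R' := hN2.to_sup_of_normal_left hT2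
  set R := R'.map C.subtype
  have hR2 : IsPGroup 2 R := hR'2.map _
  have htR : t ∈ R := ⟨t', mem_sup_right (mem_zpowers t'), rfl⟩
  have hvR : v ∈ R := ⟨v', mem_sup_left (hvN (mem_zpowers v')), rfl⟩
  by_contra hnp
  obtain ⟨q, hq, hqd, hq2⟩ : ∃ q : ℕ, q.Prime ∧ q ∣ Nat.card C ∧ q ≠ 2 := by
    by_contra hcon
    push Not at hcon
    exact hnp (IsPGroup.of_card (n := (Nat.card C).primeFactorsList.length)
      (Nat.eq_prime_pow_of_unique_prime_dvd Nat.card_pos.ne' fun {q} hq hd => hcon q hq hd))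
  haveI := Fact.mk hq
  obtain ⟨g, hgo⟩ := exists_prime_orderOf_dvd_card' (G := C) q hqd
  have hgt : Commute (g : G) t := mem_centralizer_singleton_iff.1 g.2
  have hcop : Nat.Coprime q 2 := (Nat.coprime_primes hq Nat.prime_two).2 hq2
  have hgv : Commute (g : G) v := by
    have hconj : ∀ h : C, ∀ x ∈ R, (h : G) * x * (h : G)⁻¹ ∈ R := by
      rintro h _ ⟨x, hx, rfl⟩
      exact ⟨h * x * h⁻¹, (inferInstance : R'.Normal).conj_mem x hx h, rfl⟩
    rcases two_subgroup hsc hR2 htR hvR ht hv hne hc with h4 | h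
    · have hRV : R = four (mul_self_of_order ht) (mul_self_of_order hv) hc := by
        refine (eq_of_le_of_card_ge ?_ (by rw [h4, (four_facts ht hv hne hc).1])).symm
        rintro x (rfl | rfl | rfl | rfl)
        exacts [one_mem _, htR, hvR, mul_mem htR hvR]
      have hg2 : Commute ((g : G) ^ 2) v := by
        have hx := hconj g v hvR
        rw [hRV] at hx
        rw [Commute, SemiconjBy, pow_two]
        rcases hx with e | e | e | e
        · exact absurd (conj_eq_one_iff.1 e) (ne_one_of_order hv)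
        · refine absurd ?_ hne
          rw [mul_inv_eq_iff_eq_mul, ← hgt.eq] at e
          exact (mul_left_cancel e).symm
        · rw [mul_inv_eq_iff_eq_mul] at e
          rw [mul_assoc, e, ← mul_assoc, e, mul_assoc]
        · rw [Set.mem_singleton_iff, mul_inv_eq_iff_eq_mul] at e
          rw [mul_assoc, e, mul_assoc t v, ← mul_assoc (g : G) t, hgt.eq, mul_assoc t (g : G),
            ← mul_assoc (g : G) v, e, ← mul_assoc t, ← mul_assoc t, ← mul_assoc t,
            mul_self_of_order ht, one_mul, mul_assoc]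
      obtain ⟨r, hr⟩ : Odd q := (hq.eq_two_or_odd').resolve_left hq2
      have : (g : G) = ((g : G) ^ 2) ^ (r + 1) := by
        rw [← pow_mul, show 2 * (r + 1) = q + 1 by omega, pow_succ, ← hgo, ← orderOf_coe,
          pow_orderOf_eq_one, one_mul]
      rw [this]
      exact hg2.pow_left _
    · have hA : IsPGroup 2 (MulAut R) := Cfsg.Agent.S3116.result hR2
        (h.imp (fun ⟨k, hk⟩ => ⟨2 ^ (k + 2), Nat.pow_le_pow_right two_pos (by omega : 2 ≤ k + 2), hk⟩)
          id)
      have hgN : (g : G) ∈ normalizer (R : Set G) := mem_normalizer_iff.2 fun x =>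
        ⟨hconj g x, fun hx => by simpa [mul_assoc] using hconj g⁻¹ _ hx⟩
      obtain ⟨j, hj⟩ := hA ((normalizerMonoidHom R) ⟨g, hgN⟩)
      have h1 : orderOf ((normalizerMonoidHom R) ⟨g, hgN⟩) ∣ q := by
        refine (orderOf_map_dvd _ _).trans ?_
        rw [Subgroup.orderOf_mk, orderOf_coe, hgo]
      have h2 := Nat.eq_one_of_dvd_coprimes (hcop.pow_right j) h1 (orderOf_dvd_of_pow_eq_one hj)
      have h3 := congrArg (fun f : MulAut R => ((f ⟨v, hvR⟩ : R) : G)) (orderOf_eq_one_iff.1 h2)
      exact mul_inv_eq_iff_eq_mul.1 h3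
  have hgo' : orderOf (g : G) = q := by rw [orderOf_coe, hgo]
  rcases cases_of_commute hsc ht hv hne hc hgt hgv with e | e | e | e
  · rw [e, orderOf_one] at hgo'; exact hq.ne_one hgo'.symm
  · exact hq2 (by rw [← hgo', e, ht])
  · exact hq2 (by rw [← hgo', e, hv])
  · have : orderOf (t * v) ∣ 2 := orderOf_dvd_of_pow_eq_one (by
      rw [hc.mul_pow, pow_two, pow_two, mul_self_of_order ht, mul_self_of_order hv, one_mul])
    rw [← e, hgo'] at this
    exact hq2 ((Nat.prime_dvd_prime_iff_eq hq Nat.prime_two).1 this)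

/-- The group is `PSL₂(q)`, `q` odd. -/
theorem exists_psl [IsSimpleGroup G] (hna : ¬ IsMulCommutative G) (hsc : SC G) :
    ∃ (F : Type) (_ : Field F) (_ : Fintype F), Odd (Fintype.card F) ∧
      Nonempty (G ≃* Matrix.ProjectiveSpecialLinearGroup (Fin 2) F) := by
  haveI := Fact.mk Nat.prime_two
  obtain ⟨S⟩ : Nonempty (Sylow 2 G) := inferInstance
  obtain ⟨t, v, htS, hvS, ht, hv, hne, hcen⟩ := exists_four hna S
  have hc : Commute t v := (hcen v hvS).symm
  have hC := centralizer_two hna hsc ht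
  have hdih : ∃ n : ℕ, 2 ≤ n ∧ Nonempty ((S : Subgroup G) ≃* DihedralGroup n) := by
    rcases two_subgroup hsc S.isPGroup' htS hvS ht hv hne hc with h4 | ⟨k, hk⟩ | hQ
    · refine ⟨2, le_rfl, ?_⟩
      have hnc := not_isCyclic_sylow hna (minFac_eq_two hna) S
      haveI : IsKleinFour (S : Subgroup G) :=
        ⟨h4, (not_isCyclic_iff_exponent_eq_prime Nat.prime_two (by rw [h4]; rfl)).1 hnc⟩
      exact IsKleinFour.nonempty_mulEquiv
    · exact ⟨2 ^ (k + 2), Nat.le_self_pow (by omega) 2, hk⟩
    · exfalso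
      have hidx : ∀ H : Subgroup G, H.index ≠ 2 := fun H hH => by
        rcases (normal_of_index_eq_two hH).eq_bot_or_eq_top with h | h
        · rw [h, index_bot] at hH
          haveI : IsCyclic G := isCyclic_of_prime_card hH
          exact hna inferInstance
        · rw [h, index_top] at hH
          omega
      obtain ⟨R, -, ⟨K, -, -, hK, hP⟩, -⟩ := Cfsg.Agent.S1213.result S (Or.inl hQ) hidx t ht
      obtain ⟨P⟩ : Nonempty (Sylow 2 K) := inferInstance
      obtain ⟨m, -, ⟨e⟩⟩ := hP P
      haveI : Nontrivial K := by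
        haveI : NeZero (2 ^ m) := ⟨by positivity⟩
        rw [← Finite.one_lt_card_iff_nontrivial]
        refine lt_of_lt_of_le ?_ (P : Subgroup K).card_le_card_group
        rw [Nat.card_congr e.toEquiv, Nat.card_eq_fintype_card, QuaternionGroup.card]
        have := Nat.two_pow_pos m
        omega
      obtain ⟨M, hM, -⟩ := (eq_top_or_exists_le_coatom (⊥ : Subgroup K)).resolve_left bot_ne_top
      exact hK M (CfsgLib.TwoGroups.SD.index_of_isCoatom (hC.to_subgroup K) hM)
  obtain ⟨n, hn, hS⟩ := hdih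
  refine Cfsg.Agent.S0508.result S n hn hS t ht htS (fun s hs => (hcen s hs).eq) ⊥ ?_
    (fun h => absurd rfl h) (fun s _ hs => absurd (mem_centralizer_iff.2 fun x hx => ?_) hs)
    (fun Y hY hY1 => absurd (le_bot_iff.1 hY) hY1)
  · rw [eq_comm, map_eq_bot_iff_of_injective _ (Subgroup.subtype_injective _), eq_bot_iff_card]
    obtain ⟨j, hj⟩ := (hC.to_subgroup (Cfsg.oddCore (centralizer ({t} : Set G)))).exists_card_eq
    rcases j.eq_zero_or_pos with rfl | hj0
    · rw [hj, pow_zero]
    · have hco := CfsgLib.PCore.pPrimeCore_coprime (p := 2) (G := centralizer ({t} : Set G))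
      rw [show Cfsg.pPrimeCore 2 _ = Cfsg.oddCore (centralizer ({t} : Set G)) from rfl, hj,
        Nat.coprime_pow_left_iff hj0] at hco
      simp at hco
  · rw [mem_bot.1 hx, one_mul, mul_one]

end CfsgLib.SelfCentralSimple
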