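import Cfsg.Agent.Lib.SelfCentralSimple.Even
import Cfsg.Agent.Lib.PSL2.Involution
import Cfsg.Agent.Lib.PSL2.Projective
import Cfsg.Agent.Lib.PSL2.Dihedral
import Cfsg.Agent.Lib.Recog45.HalfTransitive.Imprimitive
import Cfsg.Agent.Lib.ClassicalGroups.SmallIso

/-!
# Self-centralizing non-cyclic subgroups in `PSL₂(q)`
-/

set_option autoImplicit false
set_option linter.style.haveILetI false
set_option linter.unusedSectionVars false

open Matrix

namespace CfsgLib.SelfCentralSimple

open Subgroup CfsgLib.PSL2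

universe u v

theorem SC.of_equiv {G : Type u} [Group G] {H : Type v} [Group H] (e : G ≃* H) (h : SC H) : SC G := by
  intro K hK g hg
  have hnc : ¬ IsCyclic (K.map e.toMonoidHom) := fun hc => by
    haveI := hc
    exact hK (isCyclic_of_injective (K.equivMapOfInjective e.toMonoidHom e.injective).toMonoidHom
      (K.equivMapOfInjective e.toMonoidHom e.injective).injective)
  have := h _ hnc (x := e g) (mem_centralizer_iff.2 fun x hx => by
    obtain ⟨k, hk, rfl⟩ := hx
    exact (map_mul e k g).symm.trans ((congrArg e (mem_centralizer_iff.1 hg k hk)).trans (map_mul e g k)))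
  exact (mem_map_iff_mem e.injective).1 this

/-- In a dihedral 2-group non-cyclic subgroups contain their centralizers. -/
theorem dihedral_mem {a : ℕ} {H : Subgroup (DihedralGroup (2 ^ a))} (hnc : ¬ IsCyclic H)
    {y : DihedralGroup (2 ^ a)} (hy : ∀ h ∈ H, Commute y h) : y ∈ H := by
  haveI : NeZero (2 ^ a) := ⟨by positivity⟩
  have huniq : ∀ i j : ZMod (2 ^ a), 2 * i = 0 → i ≠ 0 → 2 * j = 0 → j = 0 ∨ j = i := by
    intro i j hi hi0 hj
    have key : ∀ z : ZMod (2 ^ a), 2 * z = 0 → z = 0 ∨ 2 * z.val = 2 ^ a := fun z hz => by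
      replace hz : ((2 * z.val : ℕ) : ZMod (2 ^ a)) = 0 := by
        push_cast
        rw [ZMod.natCast_rightInverse z]
        exact hz
      rw [ZMod.natCast_eq_zero_iff] at hz
      obtain ⟨c, hc⟩ := hz
      have hlt := ZMod.val_lt z
      rcases c with _ | _ | c
      · exact Or.inl ((ZMod.val_eq_zero z).1 (by omega))
      · exact Or.inr (by rw [hc, Nat.zero_add, mul_one])
      · exfalso
        have : 2 ^ a * 2 ≤ 2 ^ a * (c + 1 + 1) := Nat.mul_le_mul_left _ (by omega)
        omega
    rcases key j hj with h | h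
    · exact Or.inl h
    · exact Or.inr (ZMod.val_injective _ (by have := (key i hi).resolve_left hi0; omega))
  have hrot : ∃ l, l ≠ 0 ∧ DihedralGroup.r l ∈ H := by
    by_contra hcon
    push Not at hcon
    refine hnc ?_
    by_cases hs : ∃ i, DihedralGroup.sr i ∈ H
    · obtain ⟨i, hi⟩ := hs
      have heq : H = zpowers (DihedralGroup.sr i) := by
        refine le_antisymm (fun g hg => ?_) (zpowers_le.2 hi)
        rcases g with j | j
        · rw [show j = 0 by by_contra hj; exact hcon j hj hg]
          exact one_mem _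
        · have hmem := mul_mem hi hg
          rw [DihedralGroup.sr_mul_sr] at hmem
          rw [show j = i by by_contra hj; exact hcon _ (sub_ne_zero.2 hj) hmem]
          exact mem_zpowers _
      rw [heq]
      infer_instance
    · push Not at hs
      have heq : H = ⊥ := (eq_bot_iff_forall _).2 fun g hg => by
        rcases g with j | j
        · rw [show j = 0 by by_contra hj; exact hcon j hj hg]
          rfl
        · exact absurd hg (hs j)
      rw [heq]
      infer_instance
  obtain ⟨l, hl, hlH⟩ := hrot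
  have hexists : ∃ m, m ≠ 0 ∧ 2 * m = 0 ∧ DihedralGroup.r m ∈ H := by
    have key : ∀ b : ℕ, ∀ l : ZMod (2 ^ a), (2 : ZMod (2 ^ a)) ^ b * l = 0 → l ≠ 0 →
        DihedralGroup.r l ∈ H → ∃ m, m ≠ 0 ∧ 2 * m = 0 ∧ DihedralGroup.r m ∈ H := by
      intro b
      induction b with
      | zero => intro l h h0; exact absurd (by simpa using h) h0
      | succ b ih =>
        intro l h h0 hl
        by_cases h2 : 2 * l = 0
        · exact ⟨l, h0, h2, hl⟩
        · refine ih _ (by rw [← mul_assoc, ← pow_succ]; exact h) h2 ?_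
          rw [two_mul, ← DihedralGroup.r_mul_r]
          exact mul_mem hl hl
    refine key a l ?_ hl hlH
    have : ((2 ^ a : ℕ) : ZMod (2 ^ a)) = 0 := ZMod.natCast_self _
    push_cast at this
    rw [this, zero_mul]
  obtain ⟨m, hm0, hm2, hmH⟩ := hexists
  rcases y with j | j
  · by_cases hall : ∀ i, DihedralGroup.sr i ∉ H
    · exfalso
      refine hnc ?_
      have hle : H ≤ zpowers (DihedralGroup.r (1 : ZMod (2 ^ a))) := fun g hg => by
        rcases g with i | i
        · exact mem_zpowers_iff.2 ⟨(i.val : ℤ), by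
            rw [zpow_natCast, DihedralGroup.r_one_pow, ZMod.natCast_rightInverse i]⟩
        · exact absurd hg (hall i)
      exact isCyclic_of_injective (inclusion hle) (inclusion_injective hle)
    push Not at hall
    obtain ⟨i, hi⟩ := hall
    have h := (hy _ hi).eq
    rw [DihedralGroup.r_mul_sr, DihedralGroup.sr_mul_r, DihedralGroup.sr.injEq] at h
    rcases huniq m j hm2 hm0 (by linear_combination -h) with rfl | rfl
    · exact one_mem _
    · exact hmH
  · have h := (hy _ hlH).eq
    rw [DihedralGroup.sr_mul_r, DihedralGroup.r_mul_sr, DihedralGroup.sr.injEq] at h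
    have hlm : l = m := (huniq m l hm2 hm0 (by linear_combination h)).resolve_left hl
    by_cases hall : ∀ i, DihedralGroup.sr i ∉ H
    · exfalso
      refine hnc ?_
      have hle : H ≤ zpowers (DihedralGroup.r (1 : ZMod (2 ^ a))) := fun g hg => by
        rcases g with i | i
        · exact mem_zpowers_iff.2 ⟨(i.val : ℤ), by
            rw [zpow_natCast, DihedralGroup.r_one_pow, ZMod.natCast_rightInverse i]⟩
        · exact absurd hg (hall i)
      exact isCyclic_of_injective (inclusion hle) (inclusion_injective hle)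
    push Not at hall
    obtain ⟨i, hi⟩ := hall
    have h' := (hy _ hi).eq
    rw [DihedralGroup.sr_mul_sr, DihedralGroup.sr_mul_sr, DihedralGroup.r.injEq] at h'
    rcases huniq m (j - i) hm2 hm0 (by linear_combination -h') with e | e
    · rw [sub_eq_zero.1 e]; exact hi
    · have := mul_mem hi hmH
      rwa [DihedralGroup.sr_mul_r, ← e, add_sub_cancel] at this

section Psl

variable {F : Type} [Field F] [Fintype F]

local notation "PSL" => ProjectiveSpecialLinearGroup (Fin 2) F

theorem conj_centralizer_equiv {G : Type*} [Group G] (g j : G) :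
    Nonempty (centralizer ({j} : Set G) ≃* centralizer ({g * j * g⁻¹} : Set G)) := by
  refine ⟨((centralizer ({j} : Set G)).equivMapOfInjective (MulAut.conj g).toMonoidHom
    (MulAut.conj g).injective).trans (MulEquiv.subgroupCongr ?_)⟩
  ext x
  rw [mem_map_equiv, mem_centralizer_singleton_iff, mem_centralizer_singleton_iff,
    MulAut.conj_symm_apply]
  constructor
  · intro h
    calc x * (g * j * g⁻¹) = g * (g⁻¹ * x * g * j) * g⁻¹ := by group
      _ = g * (j * (g⁻¹ * x * g)) * g⁻¹ := by rw [h]
      _ = g * j * g⁻¹ * x := by group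
  · intro h
    calc g⁻¹ * x * g * j = g⁻¹ * (x * (g * j * g⁻¹)) * g := by group
      _ = g⁻¹ * (g * j * g⁻¹ * x) * g := by rw [h]
      _ = j * (g⁻¹ * x * g) := by group

theorem centralizer_dihedral (hodd : Odd (Fintype.card F)) {k : ℕ}
    (hk : (if Fintype.card F % 4 = 1 then Fintype.card F - 1 else Fintype.card F + 1) = 2 ^ k)
    {i : PSL} (hi : orderOf i = 2) :
    ∃ a : ℕ, Nonempty (centralizer ({i} : Set PSL) ≃* DihedralGroup (2 ^ a)) := by
  classical
  obtain ⟨p, hp⟩ := CharP.exists F
  have : Fact p.Prime := ⟨CharP.char_is_prime F p⟩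
  let ι : F →+* AlgebraicClosure F := algebraMap F _
  have : CharP (AlgebraicClosure F) p := charP_of_injective_ringHom ι.injective p
  obtain ⟨Φ, hΦ⟩ := exists_frob (F := F) (L := AlgebraicClosure F) p
  have hq := Fintype.one_lt_card (α := F)
  have hodd' := Nat.odd_iff.1 hodd
  obtain ⟨x, y, h⟩ : ∃ x y, IsPair ι Φ x y (2 ^ k) := by
    rw [← hk]
    split_ifs
    · exact exists_isPair_split (ι := ι) (Φ := Φ)
    · exact exists_isPair_nonsplit hΦ (ι := ι)
  have h4 : 4 ∣ 2 ^ k := by
    rw [← hk]
    split_ifs <;> omega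
  have hk2 : 2 ≤ k := (Nat.pow_dvd_pow_iff_le_right one_lt_two).1 (by simpa using h4 : 2 ^ 2 ∣ 2 ^ k)
  obtain ⟨j, hj, hC, -⟩ := exists_centralizer_eq hodd hΦ h h4
  obtain ⟨-, ⟨φ⟩⟩ := pslPair_dihedral hΦ h
  rw [gcd_eq_two hodd, show 2 ^ k / 2 = 2 ^ (k - 1) by
    obtain ⟨k, rfl⟩ : ∃ m, k = m + 1 := ⟨k - 1, by omega⟩
    rw [pow_succ, Nat.mul_div_cancel _ two_pos, Nat.add_sub_cancel]] at φ
  obtain ⟨g, rfl⟩ := isConj_iff.1 (isConj_of_orderOf_two (two_ne_zero_of_odd hodd) hj hi)
  obtain ⟨ψ⟩ := conj_centralizer_equiv g j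
  exact ⟨k - 1, ⟨ψ.symm.trans ((MulEquiv.subgroupCongr hC).trans φ)⟩⟩

/-- The commuting elements of odd order: a non-cyclic subgroup of `PSL₂(q)` commuting with a
non-trivial element, both of odd order. -/
theorem card_of_odd {p : ℕ} [Fact p.Prime] [CharP F p]
    {H : Subgroup PSL} (hnc : ¬ IsCyclic H) {y : PSL} (hy1 : y ≠ 1)
    (hy : ∀ h ∈ H, Commute y h) (hH : ∀ h ∈ H, Odd (orderOf h)) :
    ∀ g ∈ H ⊔ zpowers y, g ^ p = 1 := by
  classical
  let ι : F →+* AlgebraicClosure F := algebraMap F _
  have : CharP (AlgebraicClosure F) p := charP_of_injective_ringHom ι.injective p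
  obtain ⟨Φ, hΦ⟩ := exists_frob (F := F) (L := AlgebraicClosure F) p
  set f := pslLineHom ι with hf
  have hinj : Function.Injective f := pslLineHom_injective ι
  have hperm : ∀ g : PSL, g ≠ 1 → ∀ x, f g x = x → (g ^ p = 1 ↔ ∀ z, f g z = z → z = x) := by
    intro g hg x hx
    rw [← map_eq_one_iff f hinj, map_pow]
    exact pow_eq_one_iff_perm p (pslLineHom_mem_range ι g) ((map_ne_one_iff f hinj).2 hg) hx
  have hcomm : ∀ a b : PSL, Commute a b → ∀ x, f a x = x → f a (f b x) = f b x := by
    intro a b hab x hx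
    rw [← Equiv.Perm.mul_apply, ← map_mul, hab.eq, map_mul, Equiv.Perm.mul_apply, hx]
  have hsq : ∀ g : PSL, Odd (orderOf g) → ∀ x, f g (f g x) = x → f g x = x := by
    intro g hg x hx
    obtain ⟨r, hr⟩ := hg
    have h1 : (f g ^ 2) x = x := by rw [pow_two, Equiv.Perm.mul_apply, hx]
    have h2 : ((f g ^ 2) ^ r) x = x := Equiv.Perm.pow_apply_eq_self_of_apply_eq_self h1 r
    have h3 := congrArg (fun σ => σ x) (map_pow f g (orderOf g))
    rw [pow_orderOf_eq_one, map_one, Equiv.Perm.one_apply, hr, pow_succ', pow_mul,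
      Equiv.Perm.mul_apply, h2] at h3
    exact h3.symm
  obtain ⟨x, hx⟩ := exists_fix_of_isAlgClosed (pslLineHom_mem_range ι y)
  have hyp : y ^ p = 1 := by
    rw [hperm y hy1 x hx]
    by_contra hcon
    push Not at hcon
    obtain ⟨z, hz, hzx⟩ := hcon
    refine hnc ?_
    have hle : H ≤ pslFix ι x z := by
      intro h hh
      have hswap : ∀ w, f y w = w → f h w = x ∨ f h w = z → w = x ∨ w = z := fun w hw _ => by
        rcases fix_le_two_perm (pslLineHom_mem_range ι y) ((map_ne_one_iff f hinj).2 hy1) hx hz hw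
          with e | e | e
        · exact absurd e.symm hzx
        · exact Or.inl e.symm
        · exact Or.inr e.symm
      have key : ∀ w, f y w = w → f h w = x ∨ f h w = z := fun w hw => by
        rcases fix_le_two_perm (pslLineHom_mem_range ι y) ((map_ne_one_iff f hinj).2 hy1) hx hz
          (hcomm y h (hy h hh) w hw) with e | e | e
        · exact absurd e.symm hzx
        · exact Or.inl e.symm
        · exact Or.inr e.symm
      have hxx : f h x = x := by
        rcases key x hx with e | e
        · exact e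
        · refine hsq h (hH h hh) x ?_
          rw [e]
          rcases key z hz with e' | e'
          · exact e'
          · exact absurd ((f h).injective (e'.trans e.symm)) hzx
      have hzz : f h z = z := by
        rcases key z hz with e | e
        · exact absurd ((f h).injective (e.trans hxx.symm)) hzx
        · exact e
      exact ⟨hxx, hzz⟩
    haveI := isCyclic_pslFix hΦ (ι := ι) (Ne.symm hzx)
    exact isCyclic_of_injective (inclusion hle) (inclusion_injective hle)
  have hHp : ∀ h ∈ H, h ^ p = 1 := by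
    intro h hh
    rcases eq_or_ne h 1 with rfl | h1
    · exact one_pow p
    have huniq := (hperm y hy1 x hx).1 hyp
    have hhx : f h x = x := huniq _ (hcomm y h (hy h hh) x hx)
    rw [hperm h h1 x hhx]
    intro z hz
    by_contra hzx
    rcases fix_le_two_perm (pslLineHom_mem_range ι h) ((map_ne_one_iff f hinj).2 h1) hhx hz
      (hcomm h y (hy h hh).symm z hz) with e | e | e
    · exact hzx e.symm
    · exact hzx ((f y).injective (e.symm.trans hx.symm))
    · exact hzx (huniq z e.symm)
  intro g hg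
  have hn : zpowers y ≤ normalizer (H : Set PSL) := zpowers_le.2 (mem_normalizer_iff.2 fun n => by
    refine ⟨fun h => ?_, fun h => ?_⟩
    · rw [(hy n h).eq, mul_inv_cancel_right]; exact h
    · have := (hy _ h).eq
      rw [← mul_inv_eq_iff_eq_mul] at this
      have h2 : n = y * n * y⁻¹ := by
        have e : y * (y * n * y⁻¹) * y⁻¹ = y * n * y⁻¹ := this
        rw [mul_right_cancel_iff, mul_left_cancel_iff] at e
        exact e.symm
      rwa [h2])
  rw [← SetLike.mem_coe, coe_mul_of_right_le_normalizer_left _ _ hn] at hg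
  obtain ⟨h, hh, _, ⟨i, rfl⟩, rfl⟩ := Set.mem_mul.1 hg
  simp only
  rw [((hy h hh).symm.zpow_right i).mul_pow, hHp h hh, one_mul, ← zpow_natCast, zpow_comm,
    zpow_natCast, hyp, _root_.one_zpow]

theorem sc_psl (hodd : Odd (Fintype.card F)) (hcond : Fintype.card F = 9 ∨ ((Fintype.card F).Prime ∧
      ∃ k : ℕ, Fintype.card F = 2 ^ k + 1 ∨ Fintype.card F = 2 ^ k - 1)) : SC PSL := by
  classical
  obtain ⟨p, hp⟩ := CharP.exists F
  haveI : Fact p.Prime := ⟨CharP.char_is_prime F p⟩
  obtain ⟨n, hpp, hqn⟩ := FiniteField.card F p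
  set q := Fintype.card F with hqdef
  have hodd' := Nat.odd_iff.1 hodd
  have hq1 : 1 < q := Fintype.one_lt_card
  have hn2 : (n : ℕ) ≤ 2 := by
    rcases hcond with h | ⟨h, -⟩
    · by_contra hn
      have h1 : p ^ 3 ∣ 9 := h ▸ hqn ▸ pow_dvd_pow p (by omega)
      have h2 := Nat.le_of_dvd (by norm_num) h1
      have h3 := Nat.pow_le_pow_left hpp.two_le 3
      have : p < 3 := by
        by_contra hp3
        have := Nat.pow_le_pow_left (not_lt.1 hp3) 3
        omega
      have := hpp.two_le
      obtain rfl : p = 2 := by omega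
      norm_num at h1
    · rw [hqn, Nat.Prime.pow_eq_iff h] at *
      omega
  obtain ⟨k, hk⟩ : ∃ k, (if q % 4 = 1 then q - 1 else q + 1) = 2 ^ k := by
    rcases hcond with h | ⟨-, k, h | h⟩
    · exact ⟨3, by rw [h]; rfl⟩
    · rcases k with _ | _ | k
      · rw [h] at hodd'; simp at hodd'
      · exact ⟨2, by rw [h]; rfl⟩
      · refine ⟨k + 2, ?_⟩
        have h4 : 2 ^ (k + 1 + 1) = 4 * 2 ^ k := by rw [pow_add, pow_add]; ring
        rw [h, if_pos (by omega), Nat.add_sub_cancel]
    · rcases k with _ | _ | k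
      · omega
      · omega
      · refine ⟨k + 2, ?_⟩
        have h4 : 2 ^ (k + 2) = 4 * 2 ^ k := by rw [pow_add]; ring
        rw [show k + 1 + 1 = k + 2 from rfl] at h
        have := Nat.two_pow_pos k
        rw [if_neg (by omega)]
        omega
  intro H hnc y hy
  have hyc : ∀ h ∈ H, Commute y h := fun h hh => (mem_centralizer_iff.1 hy h hh).symm
  rcases eq_or_ne y 1 with rfl | hy1
  · exact one_mem H
  by_cases hz : ∃ z : PSL, orderOf z = 2 ∧ (∀ h ∈ H, Commute z h) ∧ Commute z y
  · obtain ⟨z, hzo, hzH, hzy⟩ := hz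
    obtain ⟨a, ⟨e⟩⟩ := centralizer_dihedral hodd hk hzo
    set C := centralizer ({z} : Set PSL)
    have hHC : H ≤ C := fun h hh => mem_centralizer_singleton_iff.2 (hzH h hh).symm.eq
    have hnc' : ¬ IsCyclic ((H.subgroupOf C).map e.toMonoidHom) := fun hc => by
      haveI := hc
      let g := ((subgroupOfEquivOfLe hHC).symm.trans
        ((H.subgroupOf C).equivMapOfInjective e.toMonoidHom e.injective))
      exact hnc (isCyclic_of_injective g.toMonoidHom g.injective)
    have hm := dihedral_mem hnc' (y := e ⟨y, mem_centralizer_singleton_iff.2 hzy.symm.eq⟩) (by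
      rintro _ ⟨h, hh, rfl⟩
      exact Commute.map (Subtype.ext (hyc _ (mem_subgroupOf.1 hh)).eq) e)
    exact mem_subgroupOf.1 ((mem_map_iff_mem (f := e.toMonoidHom) e.injective).1 hm)
  push Not at hz
  have hyo : Odd (orderOf y) := by
    rw [← Nat.not_even_iff_odd]
    intro he
    obtain ⟨z, hzo⟩ : ∃ z ∈ zpowers y, orderOf z = 2 :=
      ⟨y ^ (orderOf y / 2), npow_mem_zpowers y _, by
        rw [orderOf_pow_of_dvd (by
          have := orderOf_pos y
          have := Nat.le_of_dvd this he.two_dvd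
          omega) (Nat.div_dvd_of_dvd he.two_dvd),
          Nat.div_div_self he.two_dvd (orderOf_pos y).ne']⟩
    obtain ⟨⟨i, rfl⟩, hzo⟩ := hzo
    exact hz _ hzo (fun h hh => (hyc h hh).zpow_left i) ((Commute.refl y).zpow_left i)
  have hH : ∀ h ∈ H, Odd (orderOf h) := by
    intro h hh
    rw [← Nat.not_even_iff_odd]
    intro he
    obtain ⟨s, hsH, hso⟩ : ∃ s ∈ H, orderOf s = 2 :=
      ⟨h ^ (orderOf h / 2), H.pow_mem hh _, by
        rw [orderOf_pow_of_dvd (by
          have := orderOf_pos h
          have := Nat.le_of_dvd this he.two_dvd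
          omega) (Nat.div_dvd_of_dvd he.two_dvd),
          Nat.div_div_self he.two_dvd (orderOf_pos h).ne']⟩
    obtain ⟨a, ⟨e⟩⟩ := centralizer_dihedral hodd hk hso
    have hd : orderOf y ∣ 2 ^ (a + 1) := by
      have h1 := orderOf_dvd_natCard
        (⟨y, mem_centralizer_singleton_iff.2 (hyc s hsH).eq⟩ : centralizer ({s} : Set PSL))
      rw [Subgroup.orderOf_mk, Nat.card_congr e.toEquiv, DihedralGroup.nat_card, ← pow_succ'] at h1
      exact h1
    exact hy1 (orderOf_eq_one_iff.1
      (Nat.eq_one_of_dvd_coprimes ((Nat.coprime_two_right.2 hyo).pow_right _) dvd_rfl hd))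
  have hall := card_of_odd (p := p) hnc hy1 hyc hH
  set K := H ⊔ zpowers y
  have hK : IsPGroup p K := fun g => ⟨1, Subtype.ext (by rw [coe_pow, pow_one, coe_one]; exact hall g g.2)⟩
  obtain ⟨c, hc⟩ := hK.exists_card_eq
  have hcn : c ≤ n := by
    have h1 : Nat.gcd 2 (q - 1) * Nat.card K ∣ (q + 1) * (q * (q - 1)) :=
      card_psl (F := F) ▸ Nat.mul_dvd_mul_left _ (card_subgroup_dvd_card K)
    have h2 : p ^ c ∣ (q + 1) * (q * (q - 1)) := hc ▸ (dvd_mul_left _ _).trans h1
    have hpq : p ∣ q := hqn ▸ dvd_pow_self p n.ne_zero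
    have hco1 : Nat.Coprime (p ^ c) (q + 1) := Nat.Coprime.pow_left _ ((Nat.Prime.coprime_iff_not_dvd hpp).2
      fun h => hpp.not_dvd_one ((Nat.dvd_add_right hpq).1 h))
    have hco2 : Nat.Coprime (p ^ c) (q - 1) := Nat.Coprime.pow_left _ ((Nat.Prime.coprime_iff_not_dvd hpp).2
      fun h => by
        have h' := Nat.dvd_sub hpq h
        rw [show q - (q - 1) = 1 by omega] at h'
        exact hpp.not_dvd_one h')
    have h3 : p ^ c ∣ q := hco2.dvd_of_dvd_mul_right (hco1.dvd_of_dvd_mul_left h2)
    rw [hqn] at h3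
    exact (Nat.pow_dvd_pow_iff_le_right hpp.one_lt).1 h3
  obtain ⟨b, hb⟩ := (hK.to_le (le_sup_left : H ≤ K)).exists_card_eq
  have hb2 : 2 ≤ b := by
    by_contra hb2
    rcases Nat.lt_or_ge b 1 with h | h
    · rw [show b = 0 by omega, pow_zero, card_eq_one] at hb
      exact hnc (hb ▸ inferInstance)
    · rw [show b = 1 by omega, pow_one] at hb
      exact hnc (isCyclic_of_prime_card hb)
  have hHK : H = K := eq_of_le_of_card_ge le_sup_left (by
    rw [hb, hc]
    exact Nat.pow_le_pow_right hpp.pos (by omega))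
  rw [hHK]
  exact mem_sup_right (mem_zpowers y)

/-- The arithmetic of the order of an involution centralizer. -/
theorem card_cases (hodd : Odd (Fintype.card F)) {k : ℕ}
    (hk : (if Fintype.card F % 4 = 1 then Fintype.card F - 1 else Fintype.card F + 1) = 2 ^ k) :
    Fintype.card F = 9 ∨ ((Fintype.card F).Prime ∧
      ∃ k : ℕ, Fintype.card F = 2 ^ k + 1 ∨ Fintype.card F = 2 ^ k - 1) := by
  obtain ⟨p, hp⟩ := CharP.exists F
  obtain ⟨n, hpp, hqn⟩ := FiniteField.card F p
  have hn : 1 ≤ (n : ℕ) := n.pos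
  have hq1 : 1 < Fintype.card F := Fintype.one_lt_card
  have hodd' := Nat.odd_iff.1 hodd
  split_ifs at hk with h4
  · rcases CfsgLib.Recog45.HalfTransitive.pow_eq_two_pow_add_one (a := k) hpp hn (by omega) with
      h | ⟨rfl, h⟩
    · exact Or.inr ⟨by rw [hqn, h, pow_one]; exact hpp, k, Or.inl (by omega)⟩
    · exact Or.inl (by rw [hqn, h]; rfl)
  · refine Or.inr ⟨?_, k, Or.inr (by omega)⟩
    rcases Nat.even_or_odd (n : ℕ) with ⟨r, hr⟩ | hno
    · exfalso
      rw [hqn, hr, ← two_mul, pow_mul'] at h4 hodd'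
      have h2 : p ^ r % 2 = 1 := by
        rw [Nat.pow_mod] at hodd'
        rcases Nat.mod_two_eq_zero_or_one (p ^ r) with h | h
        · rw [h] at hodd'; simp at hodd'
        · exact h
      obtain ⟨d, hd⟩ : ∃ d, p ^ r = 2 * d + 1 := ⟨p ^ r / 2, by omega⟩
      rw [hd, show (2 * d + 1) ^ 2 = 4 * (d * d + d) + 1 by ring] at h4
      omega
    · have hgeom : (∑ i ∈ Finset.range n, (-(p : ℤ)) ^ i) * ((p : ℤ) + 1) = 2 ^ k := by
        have h := geom_sum_mul_neg (-(p : ℤ)) (n : ℕ)
        rw [hno.neg_pow, sub_neg_eq_add, sub_neg_eq_add, add_comm (1 : ℤ) (p : ℤ)] at h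
        rw [h]
        have : ((2 ^ k : ℕ) : ℤ) = ((p ^ (n : ℕ) + 1 : ℕ) : ℤ) := by rw [← hk, hqn]
        push_cast at this
        rw [this, add_comm]
      set S := ∑ i ∈ Finset.range n, (-(p : ℤ)) ^ i with hS
      have hSodd : (S : ZMod 2) = 1 := by
        rw [hS]
        push_cast
        have hp2 : (p : ZMod 2) = 1 := by
          rw [← Nat.cast_one, ZMod.natCast_eq_natCast_iff']
          rcases Nat.mod_two_eq_zero_or_one p with h | h
          · rw [hqn, Nat.pow_mod, h, zero_pow (by omega)] at hodd'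
            simp at hodd'
          · rw [h]
        simp only [hp2, ZMod.neg_eq_self_mod_two, one_pow, Finset.sum_const, Finset.card_range,
          nsmul_eq_mul, mul_one]
        exact ZMod.natCast_eq_one_iff_odd.2 hno
      have hd : S.natAbs ∣ 2 ^ k := by
        have := congrArg Int.natAbs hgeom
        rw [Int.natAbs_mul, Int.natAbs_pow] at this
        exact ⟨_, this.symm⟩
      obtain ⟨j, -, hj⟩ := (Nat.dvd_prime_pow Nat.prime_two).1 hd
      have hj0 : j = 0 := by
        by_contra hj0
        have h2 : (2 : ℤ) ∣ S := by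
          rw [← Int.dvd_natAbs, hj]
          push_cast
          exact dvd_pow_self 2 hj0
        have := (ZMod.intCast_zmod_eq_zero_iff_dvd S 2).2 (by exact_mod_cast h2)
        rw [hSodd] at this
        exact one_ne_zero this
      rw [hj0, pow_zero] at hj
      have hpk : p + 1 = 2 ^ k := by
        have := congrArg Int.natAbs hgeom
        rw [Int.natAbs_mul, Int.natAbs_pow, hj, one_mul] at this
        exact_mod_cast this
      have hpp' : p ^ (n : ℕ) = p := by omega
      rw [hqn, hpp']
      exact hpp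

end Psl

end CfsgLib.SelfCentralSimple
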